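import Groth.Prelude.Def_EGA4b
import Groth.Agent.CommAlgDim.GlobalDim
import Mathlib.RingTheory.Ideal.KrullsHeightTheorem
import Mathlib.RingTheory.Localization.Ideal

/-! Nagata's criterion for openness of the regular locus. -/

set_option autoImplicit false
set_option linter.style.haveILetI false
universe u

open IsLocalRing EGA4

namespace J2Lib

theorem ringKrullDim_quotient_add_height_le {R : Type u} [CommRing R] (p : Ideal R) [p.IsPrime] :
    ringKrullDim (R ⧸ p) + (p.height : WithBot ℕ∞) ≤ ringKrullDim R := by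
  let x : PrimeSpectrum R := ⟨p, inferInstance⟩
  have : Nonempty (PrimeSpectrum R) := ⟨x⟩
  letI : OrderBot (PrimeSpectrum (R ⧸ p)) :=
    { bot := ⟨⊥, Ideal.isPrime_bot⟩, bot_le := fun q => (bot_le : (⊥ : Ideal (R ⧸ p)) ≤ q.asIdeal) }
  let f : PrimeSpectrum (R ⧸ p) → PrimeSpectrum R := PrimeSpectrum.comap (Ideal.Quotient.mk p)
  have hf : StrictMono f := fun a b hab => by
    refine lt_of_le_of_ne (Ideal.comap_mono hab.le) fun h => hab.ne ?_
    exact PrimeSpectrum.comap_injective_of_surjective _ Ideal.Quotient.mk_surjective h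
  have hbot : f ⊥ = x := by
    refine PrimeSpectrum.ext ?_
    show Ideal.comap (Ideal.Quotient.mk p) ⊥ = p
    rw [← RingHom.ker_eq_comap_bot, Ideal.mk_ker]
  have h1 := Order.coheight_le_coheight_apply_of_strictMono f hf ⊥
  rw [hbot] at h1
  rw [ringKrullDim, ← Order.coheight_bot_eq_krullDim, ringKrullDim,
    Order.krullDim_eq_iSup_height_add_coheight_of_nonempty, ← WithBot.coe_add, WithBot.coe_le_coe]
  refine le_trans ?_ (le_iSup (fun a => Order.height a + Order.coheight a) x)
  rw [add_comm, show p.height = Order.height x from x.height_eq_orderHeight]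
  exact add_le_add le_rfl h1

theorem isRegularLocalRing_of_quotient_height {R : Type u} [CommRing R] [IsLocalRing R]
    [IsNoetherianRing R] (p : Ideal R) [p.IsPrime] [IsRegularLocalRing (R ⧸ p)]
    (h : (p.spanFinrank : ℕ∞) ≤ p.height) : IsRegularLocalRing R := by
  classical
  refine IsRegularLocalRing.of_spanFinrank_maximalIdeal_le _ ?_
  refine le_trans ?_ (ringKrullDim_quotient_add_height_le p)
  rw [← IsRegularLocalRing.spanFinrank_maximalIdeal]
  refine le_trans ?_ (add_le_add (le_refl _) (WithBot.coe_le_coe.2 h))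
  norm_cast
  obtain ⟨t, ht, htK⟩ := Submodule.FG.exists_span_finset_card_eq_spanFinrank
    (IsNoetherian.noetherian (maximalIdeal (R ⧸ p)))
  rw [Ideal.submodule_span_eq] at htK
  obtain ⟨s, hs, hsK⟩ := Submodule.FG.exists_span_finset_card_eq_spanFinrank (IsNoetherian.noetherian p)
  rw [Ideal.submodule_span_eq] at hsK
  choose l hl using fun y : R ⧸ p => Ideal.Quotient.mk_surjective (I := p) y
  have hm : (maximalIdeal R) = Ideal.span ((t.image l ∪ s : Finset R) : Set R) := by
    have hpm : p ≤ maximalIdeal R := le_maximalIdeal (Ideal.IsPrime.ne_top ‹_›)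
    refine le_antisymm (fun z hz => ?_) (Ideal.span_le.2 ?_)
    · have := Ideal.mem_map_of_mem (Ideal.Quotient.mk p) hz
      rw [map_maximalIdeal_of_surjective _ Ideal.Quotient.mk_surjective, ← htK,
        show (t : Set (R ⧸ p)) = Ideal.Quotient.mk p '' (t.image l : Finset R) by
          rw [Finset.coe_image, Set.image_image]; simp [hl],
        ← Ideal.map_span, Ideal.mem_quotient_iff_mem_sup] at this
      rw [Finset.coe_union, Ideal.span_union, hsK]
      exact this
    · intro z hz
      rcases Finset.mem_union.1 hz with hz | hz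
      · obtain ⟨y, hy, rfl⟩ := Finset.mem_image.1 hz
        have hy' : y ∈ maximalIdeal (R ⧸ p) := htK ▸ Ideal.subset_span hy
        haveI := IsLocalHom.of_surjective (Ideal.Quotient.mk p) Ideal.Quotient.mk_surjective
        rw [SetLike.mem_coe, ← maximalIdeal_comap (Ideal.Quotient.mk p), Ideal.mem_comap, hl]
        exact hy'
      · exact hpm (hsK ▸ Ideal.subset_span hz)
  rw [hm]
  refine (Submodule.spanFinrank_span_le_ncard_of_finite (Finset.finite_toSet _)).trans ?_
  rw [Set.ncard_coe_finset]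
  exact (Finset.card_union_le _ _).trans (Nat.add_le_add (Finset.card_image_le.trans ht.le) hs.le)

variable {S : Type u} [CommRing S]

/-- The regular locus is stable under generization. -/
theorem mem_regLocus_of_le {p q : PrimeSpectrum S} (h : p ≤ q) (hq : q ∈ regLocus S) :
    p ∈ regLocus S := by
  let Q := q.asIdeal
  let Sq := Localization.AtPrime Q
  haveI : IsRegularLocalRing Sq := hq
  let P := p.asIdeal.map (algebraMap S Sq)
  have hdisj : Disjoint (Q.primeCompl : Set S) p.asIdeal :=
    Set.disjoint_left.2 fun x hx hxp => hx (h hxp)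
  haveI : P.IsPrime := IsLocalization.isPrime_of_isPrime_disjoint Q.primeCompl _ p.asIdeal p.2 hdisj
  have hcomap : P.comap (algebraMap S Sq) = p.asIdeal :=
    IsLocalization.comap_map_of_isPrime_disjoint Q.primeCompl _ p.2 hdisj
  haveI := CommAlgDim.isRegularLocalRing_localization Sq P
  haveI : IsLocalization.AtPrime (Localization.AtPrime P) p.asIdeal := by
    have h1 : IsLocalization.AtPrime (Localization.AtPrime P) (P.comap (algebraMap S Sq)) :=
      IsLocalization.isLocalization_isLocalization_atPrime_isLocalization Q.primeCompl _ P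
    simpa only [hcomap] using h1
  exact IsRegularLocalRing.of_ringEquiv (IsLocalization.algEquiv p.asIdeal.primeCompl
    (Localization.AtPrime P) (Localization.AtPrime p.asIdeal)).toRingEquiv

/-- Near a regular prime, regularity of a point follows from regularity on the closure of the prime. -/
theorem exists_forall_mem_regLocus [IsNoetherianRing S] (p : PrimeSpectrum S) (hp : p ∈ regLocus S) :
    ∃ f ∉ p.asIdeal, ∀ (P : PrimeSpectrum S) (P' : PrimeSpectrum (S ⧸ p.asIdeal)),
      P'.asIdeal.comap (Ideal.Quotient.mk p.asIdeal) = P.asIdeal → f ∉ P.asIdeal →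
      P' ∈ regLocus (S ⧸ p.asIdeal) → P ∈ regLocus S := by
  classical
  let Sp := Localization.AtPrime p.asIdeal
  haveI : IsRegularLocalRing Sp := hp
  obtain ⟨t, ht, htK⟩ := Submodule.FG.exists_span_finset_card_eq_spanFinrank
    (IsNoetherian.noetherian (maximalIdeal Sp))
  rw [Ideal.submodule_span_eq] at htK
  let num : Sp → S := fun z => (IsLocalization.sec p.asIdeal.primeCompl z).1
  have hnum : ∀ z : Sp, Associated z (algebraMap S Sp (num z)) := fun z =>
    ⟨(IsLocalization.map_units Sp (IsLocalization.sec p.asIdeal.primeCompl z).2).unit,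
      IsLocalization.sec_spec p.asIdeal.primeCompl z⟩
  set I : Ideal S := Ideal.span (t.image num : Finset S)
  have hI : I.map (algebraMap S Sp) = maximalIdeal Sp := by
    rw [Ideal.map_span, ← htK, Finset.coe_image, Set.image_image]
    refine le_antisymm (Ideal.span_le.2 ?_) (Ideal.span_le.2 ?_)
    · rintro _ ⟨z, hz, rfl⟩
      obtain ⟨c, hc⟩ := (hnum z).dvd
      simp only [SetLike.mem_coe]
      rw [hc]
      exact Ideal.mul_mem_right _ _ (Ideal.subset_span hz)
    · intro z hz
      obtain ⟨c, hc⟩ := (hnum z).symm.dvd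
      simp only [SetLike.mem_coe]
      rw [hc]
      exact Ideal.mul_mem_right _ _ (Ideal.subset_span ⟨z, hz, rfl⟩)
  have hIp : I ≤ p.asIdeal := by
    rw [← IsLocalization.AtPrime.comap_maximalIdeal Sp p.asIdeal, ← hI]
    exact Ideal.le_comap_map
  have hall : ∀ g ∈ p.asIdeal, ∃ s ∉ p.asIdeal, s * g ∈ I := fun g hg => by
    have : algebraMap S Sp g ∈ I.map (algebraMap S Sp) := by
      rw [hI]
      exact (IsLocalization.AtPrime.to_map_mem_maximal_iff Sp p.asIdeal g _).2 hg
    exact (IsLocalization.algebraMap_mem_map_algebraMap_iff p.asIdeal.primeCompl Sp I g).1 this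
  obtain ⟨gs, hgs⟩ := (IsNoetherian.noetherian p.asIdeal : p.asIdeal.FG)
  rw [Ideal.submodule_span_eq] at hgs
  choose s hs hsI using fun g : gs => hall g.1 (hgs ▸ Ideal.subset_span g.2)
  refine ⟨∏ g, s g, fun h => ?_, fun P P' hP' hf hreg => ?_⟩
  · obtain ⟨g, -, hg⟩ := p.2.prod_mem_iff.1 h
    exact hs g hg
  let Q := P.asIdeal
  let SQ := Localization.AtPrime Q
  have hpQ : p.asIdeal ≤ Q := fun x hx => by
    show x ∈ P.asIdeal
    rw [← hP', Ideal.mem_comap, Ideal.Quotient.eq_zero_iff_mem.2 hx]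
    exact zero_mem _
  set 𝔭 := p.asIdeal.map (algebraMap S SQ)
  have hdisj : Disjoint (Q.primeCompl : Set S) p.asIdeal :=
    Set.disjoint_left.2 fun x hx hxp => hx (hpQ hxp)
  haveI : 𝔭.IsPrime := IsLocalization.isPrime_of_isPrime_disjoint Q.primeCompl _ p.asIdeal p.2 hdisj
  have h𝔭 : 𝔭 = I.map (algebraMap S SQ) := by
    refine le_antisymm ?_ (Ideal.map_mono hIp)
    show p.asIdeal.map _ ≤ _
    rw [← hgs, Ideal.map_span, Ideal.span_le]
    rintro _ ⟨g, hg, rfl⟩
    have hu : IsUnit (algebraMap S SQ (∏ g, s g)) := IsLocalization.map_units SQ (⟨_, hf⟩ : Q.primeCompl)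
    refine (Ideal.unit_mul_mem_iff_mem _ hu).1 ?_
    rw [← map_mul]
    refine Ideal.mem_map_of_mem _ ?_
    rw [← Finset.prod_erase_mul _ _ (Finset.mem_univ ⟨g, hg⟩), mul_assoc]
    exact Ideal.mul_mem_left _ _ (hsI _)
  have hh : (𝔭.spanFinrank : ℕ∞) ≤ 𝔭.height := by
    have h1 : 𝔭.spanFinrank ≤ (maximalIdeal Sp).spanFinrank := by
      rw [h𝔭, Ideal.map_span, ← ht]
      refine (Submodule.spanFinrank_span_le_ncard_of_finite ((Finset.finite_toSet _).image _)).trans ?_
      exact (Set.ncard_image_le (Finset.finite_toSet _)).trans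
        ((Set.ncard_coe_finset _).trans_le Finset.card_image_le)
    have h2 : 𝔭.height = p.asIdeal.height := by
      rw [← IsLocalization.height_under Q.primeCompl 𝔭]
      congr 1
      exact IsLocalization.comap_map_of_isPrime_disjoint Q.primeCompl _ p.2 hdisj
    have h3 : ((maximalIdeal Sp).spanFinrank : ℕ∞) = p.asIdeal.height := by
      apply WithBot.coe_injective
      rw [← IsLocalization.AtPrime.ringKrullDim_eq_height p.asIdeal Sp,
        ← IsRegularLocalRing.spanFinrank_maximalIdeal]
      rfl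
    rw [h2, ← h3]
    exact_mod_cast h1
  haveI : P'.asIdeal.IsPrime := P'.2
  haveI : IsLocalization.AtPrime (SQ ⧸ 𝔭) P'.asIdeal := by
    have h := (inferInstance : IsLocalization (Algebra.algebraMapSubmonoid (S ⧸ p.asIdeal) Q.primeCompl)
      (SQ ⧸ 𝔭))
    have he : Algebra.algebraMapSubmonoid (S ⧸ p.asIdeal) Q.primeCompl = P'.asIdeal.primeCompl := by
      ext z
      obtain ⟨x, rfl⟩ := Ideal.Quotient.mk_surjective z
      constructor
      · rintro ⟨y, hy, hyx⟩ hmem
        refine hy ?_
        show y ∈ P.asIdeal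
        rw [← hP', Ideal.mem_comap]
        rw [← hyx] at hmem
        exact hmem
      · intro hx
        refine ⟨x, fun hxQ => hx ?_, rfl⟩
        have hxP : x ∈ P.asIdeal := hxQ
        rw [← hP'] at hxP
        exact hxP
    show IsLocalization P'.asIdeal.primeCompl (SQ ⧸ 𝔭)
    rw [← he]
    exact h
  haveI : IsRegularLocalRing (Localization.AtPrime P'.asIdeal) := hreg
  haveI : IsRegularLocalRing (SQ ⧸ 𝔭) := IsRegularLocalRing.of_ringEquiv (IsLocalization.algEquiv
    P'.asIdeal.primeCompl (Localization.AtPrime P'.asIdeal) (SQ ⧸ 𝔭)).toRingEquiv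
  exact isRegularLocalRing_of_quotient_height 𝔭 hh

/-- Openness criterion for a subset stable under generization in a Noetherian spectrum. -/
theorem isOpen_of_stableUnderGeneralization [IsNoetherianRing S] (U : Set (PrimeSpectrum S))
    (hgen : ∀ ⦃p q : PrimeSpectrum S⦄, p ≤ q → q ∈ U → p ∈ U)
    (h : ∀ p ∈ U, ∃ f ∉ p.asIdeal, ∀ q, p ≤ q → f ∉ q.asIdeal → q ∈ U) : IsOpen U := by
  classical
  rw [← isClosed_compl_iff, ← closure_subset_iff_isClosed,
    ← PrimeSpectrum.zeroLocus_vanishingIdeal_eq_closure]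
  intro z hz
  set I := PrimeSpectrum.vanishingIdeal Uᶜ
  obtain ⟨q, hq, hqz⟩ := Ideal.exists_minimalPrimes_le (I := I) (J := z.asIdeal) hz
  haveI : q.IsPrime := hq.1.1
  intro hzU
  have hqU : (⟨q, inferInstance⟩ : PrimeSpectrum S) ∈ U := hgen hqz hzU
  obtain ⟨f, hf, hfU⟩ := h _ hqU
  have hfin : I.minimalPrimes.Finite := Ideal.finite_minimalPrimes_of_isNoetherianRing S I
  have hg : ∀ q' ∈ hfin.toFinset.erase q, ∃ g ∈ q', g ∉ q := fun q' hq' => by
    obtain ⟨hne, hq'⟩ := Finset.mem_erase.1 hq'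
    exact SetLike.not_le_iff_exists.1 fun hle =>
      hne (le_antisymm hle (hq.2 (hfin.mem_toFinset.1 hq').1 hle))
  choose g hg hgq using hg
  set G := ∏ q' : (hfin.toFinset.erase q : Finset (Ideal S)), g q'.1 q'.2
  have hGq : G ∉ q := fun hG => by
    obtain ⟨q', -, h'⟩ := (inferInstance : q.IsPrime).prod_mem_iff.1 hG
    exact hgq _ _ h'
  have hmem : f * G ∈ I := by
    refine (PrimeSpectrum.mem_vanishingIdeal _ _).2 fun w hw => ?_
    obtain ⟨q', hq', hq'w⟩ := Ideal.exists_minimalPrimes_le (I := I) (J := w.asIdeal)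
      (PrimeSpectrum.subset_zeroLocus_vanishingIdeal _ hw)
    by_cases hqq : q' = q
    · subst hqq
      refine Ideal.mul_mem_right _ _ ?_
      by_contra hfw
      exact hw (hfU w hq'w hfw)
    · refine Ideal.mul_mem_left _ _ (hq'w ?_)
      have hq'' : q' ∈ hfin.toFinset.erase q :=
        Finset.mem_erase.2 ⟨hqq, hfin.mem_toFinset.2 hq'⟩
      exact Ideal.mem_of_dvd _ (Finset.dvd_prod_of_mem (fun q'' : (hfin.toFinset.erase q : Finset _) =>
        g q''.1 q''.2) (Finset.mem_univ ⟨q', hq''⟩)) (hg q' hq'')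
  rcases (inferInstance : q.IsPrime).mem_or_mem (hq.1.2 hmem) with h' | h'
  exacts [hf h', hGq h']

/-- Nagata's criterion: the regular locus is open as soon as that of every integral closed subscheme
contains a nonempty open subset. -/
theorem isOpen_regLocus [IsNoetherianRing S]
    (h : ∀ p : PrimeSpectrum S, p ∈ regLocus S → ∃ U : Set (PrimeSpectrum (S ⧸ p.asIdeal)),
      IsOpen U ∧ U.Nonempty ∧ U ⊆ regLocus (S ⧸ p.asIdeal)) : IsOpen (regLocus S) := by
  refine isOpen_of_stableUnderGeneralization _ (fun p q => mem_regLocus_of_le) fun p hp => ?_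
  obtain ⟨f, hf, hfreg⟩ := exists_forall_mem_regLocus p hp
  obtain ⟨U, hUo, ⟨x, hx⟩, hUreg⟩ := h p hp
  obtain ⟨_, ⟨r, rfl⟩, hxr, hrU⟩ :=
    PrimeSpectrum.isTopologicalBasis_basic_opens.exists_subset_of_mem_open hx hUo
  obtain ⟨r, rfl⟩ := Ideal.Quotient.mk_surjective r
  refine ⟨f * r, fun hmem => ?_, fun q hpq hq => ?_⟩
  · rcases p.2.mem_or_mem hmem with h' | h'
    · exact hf h'
    · exact hxr (show Ideal.Quotient.mk p.asIdeal r ∈ x.asIdeal by
        rw [Ideal.Quotient.eq_zero_iff_mem.2 h']; exact zero_mem _)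
  · haveI : (q.asIdeal.map (Ideal.Quotient.mk p.asIdeal)).IsPrime :=
      Ideal.map_isPrime_of_surjective Ideal.Quotient.mk_surjective (by rw [Ideal.mk_ker]; exact hpq)
    let q' : PrimeSpectrum (S ⧸ p.asIdeal) := ⟨q.asIdeal.map (Ideal.Quotient.mk p.asIdeal), inferInstance⟩
    have hc : q'.asIdeal.comap (Ideal.Quotient.mk p.asIdeal) = q.asIdeal := by
      rw [Ideal.comap_map_of_surjective _ Ideal.Quotient.mk_surjective, ← RingHom.ker_eq_comap_bot,
        Ideal.mk_ker]
      exact sup_eq_left.2 hpq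
    refine hfreg q q' hc (fun h' => hq (Ideal.mul_mem_right _ _ h')) (hUreg (hrU ?_))
    exact fun h' => hq (Ideal.mul_mem_left _ _ (hc ▸ (h' : r ∈ Ideal.comap _ q'.asIdeal)))

end J2Lib
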