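import Groth.Prelude.Def_EGA4b
import Groth.Agent.CommAlgDim.GlobalDim
import Groth.Agent.S5165
import Mathlib.RingTheory.Spectrum.Prime.FreeLocus
import Mathlib.RingTheory.Ideal.GoingUp

/-! Descent of regularity along finite free maps. -/

set_option autoImplicit false
set_option linter.style.haveILetI false
universe u

open IsLocalRing EGA4 CommAlgDim TensorProduct

namespace J2Lib

theorem projective_trans (R T M : Type u) [CommRing R] [CommRing T] [Algebra R T] [Module.Projective R T]
    [AddCommGroup M] [Module T M] [Module R M] [IsScalarTower R T M] [Module.Projective T M] :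
    Module.Projective R M := by
  classical
  obtain ⟨s, hs⟩ := Module.projective_def'.1 (inferInstance : Module.Projective T M)
  haveI : Module.Projective R (M →₀ T) :=
    Module.Projective.of_equiv (finsuppLequivDFinsupp (ι := M) (M := T) R).symm
  exact Module.Projective.of_split (s.restrictScalars R)
    ((Finsupp.linearCombination T (id : M → M)).restrictScalars R)
    (LinearMap.ext fun m => LinearMap.congr_fun hs m)

/-- Projective dimension does not grow by restriction along a projective algebra. -/
theorem pdlt_restrictScalars {R T : Type u} [CommRing R] [CommRing T] [Algebra R T]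
    [Module.Projective R T] [IsNoetherianRing T] :
    ∀ (n : ℕ) (N : Type u) [AddCommGroup N] [Module T N] [Module R N] [IsScalarTower R T N]
      [Module.Finite T N], PDLT T N (n + 1) → PDLT R N (n + 1)
  | 0, N, _, _, _, _, _, h => by
    haveI := pdlt_one_iff.1 h
    exact pdlt_one_iff.2 (projective_trans R T N)
  | n + 1, N, _, _, _, _, _, h => by
    obtain ⟨k, f, hf⟩ := Module.Finite.exists_fin' T N
    have h1 := pdlt_restrictScalars (R := R) n (LinearMap.ker f) ((pdlt_ker_iff f hf n).1 h)
    haveI : Module.Projective R (Fin k → T) := projective_trans R T _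
    refine (pdlt_ker_iff (f.restrictScalars R) hf n).2 (PDLT.of_equiv ?_ h1)
    exact { toFun := fun x => ⟨x.1, x.2⟩
            invFun := fun x => ⟨x.1, x.2⟩
            left_inv := fun _ => rfl
            right_inv := fun _ => rfl
            map_add' := fun _ _ => rfl
            map_smul' := fun _ _ => rfl }

/-- A Noetherian local ring with a nonzero finite free regular algebra is regular. -/
theorem isRegularLocalRing_of_free_regular (R T : Type u) [CommRing R] [IsLocalRing R]
    [IsNoetherianRing R] [CommRing T] [Nontrivial T] [IsRegularRing T] [Algebra R T]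
    [Module.Finite R T] [Module.Free R T] : IsRegularLocalRing R := by
  let k := R ⧸ maximalIdeal R
  obtain ⟨d, hd⟩ := Groth.Agent.S5165.result T (T ⊗[R] k)
  have h := pdlt_restrictScalars (R := R) d (T ⊗[R] k) hd
  let b := Module.Free.chooseBasis R T
  obtain ⟨i⟩ := b.index_nonempty
  refine isRegularLocalRing_of_pdlt (N := d) (PDLT.of_retract
    (TensorProduct.mk R T k (b i)) ((TensorProduct.lid R k).toLinearMap ∘ₗ (b.coord i).rTensor k) ?_ h)
  refine LinearMap.ext fun x => ?_
  show TensorProduct.lid R k ((b.coord i) (b i) ⊗ₜ[R] x) = x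
  simp

/-- For a finite extension of Noetherian domains, generic regularity descends. -/
theorem exists_open_regLocus_of_finite (B C : Type u) [CommRing B] [IsDomain B] [IsNoetherianRing B]
    [CommRing C] [IsDomain C] [Algebra B C] [Module.Finite B C]
    (hinj : Function.Injective (algebraMap B C))
    (h : ∃ U : Set (PrimeSpectrum C), IsOpen U ∧ U.Nonempty ∧ U ⊆ regLocus C) :
    ∃ U : Set (PrimeSpectrum B), IsOpen U ∧ U.Nonempty ∧ U ⊆ regLocus B := by
  haveI := IsNoetherianRing.of_finite B C
  haveI : Module.FinitePresentation B C := Module.finitePresentation_of_finite B C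
  obtain ⟨U, hUo, ⟨x, hx⟩, hU⟩ := h
  obtain ⟨_, ⟨g, rfl⟩, hxg, hgU⟩ :=
    PrimeSpectrum.isTopologicalBasis_basic_opens.exists_subset_of_mem_open hx hUo
  have hg0 : g ≠ 0 := fun hg => hxg (show g ∈ x.asIdeal from hg ▸ zero_mem _)
  obtain ⟨b, hb, hb0⟩ := Submodule.exists_mem_ne_zero_of_ne_bot
    (Ideal.comap_ne_bot_of_integral_mem (R := B) hg0 (Ideal.mem_span_singleton_self g)
      (Algebra.IsIntegral.isIntegral g))
  let η : PrimeSpectrum B := ⟨⊥, Ideal.isPrime_bot⟩
  have hη : η ∈ Module.freeLocus B C := by
    haveI : IsDomain (Localization.AtPrime η.asIdeal) := inferInstance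
    letI : Field (Localization.AtPrime η.asIdeal) := by
      refine IsField.toField ((isField_iff_maximalIdeal_eq).2 ?_)
      rw [← Localization.AtPrime.map_eq_maximalIdeal]
      exact Ideal.map_bot
    exact Module.Free.of_divisionRing _ _
  obtain ⟨_, ⟨c, rfl⟩, hηc, hcfree⟩ :=
    PrimeSpectrum.isTopologicalBasis_basic_opens.exists_subset_of_mem_open hη Module.isOpen_freeLocus
  refine ⟨PrimeSpectrum.basicOpen (b * c), (PrimeSpectrum.basicOpen _).2, ⟨η, ?_⟩, fun P hP => ?_⟩
  · show b * c ∉ (⊥ : Ideal B)
    rw [Ideal.mem_bot]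
    exact mul_ne_zero hb0 (fun hc => hηc (show c ∈ (⊥ : Ideal B) from hc ▸ zero_mem _))
  let M := P.asIdeal.primeCompl
  let R := Localization.AtPrime P.asIdeal
  let T := Localization (Algebra.algebraMapSubmonoid C M)
  letI : Algebra R T := inferInstanceAs (Algebra (Localization M) (Localization (Algebra.algebraMapSubmonoid C M)))
  haveI : IsScalarTower B R T :=
    inferInstanceAs (IsScalarTower B (Localization M) (Localization (Algebra.algebraMapSubmonoid C M)))
  have hfree : P ∈ Module.freeLocus B C :=
    hcfree (show c ∉ P.asIdeal from fun hc => hP (Ideal.mul_mem_left _ _ hc))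
  haveI : Module.Free R T := (Module.mem_freeLocus_of_isLocalization P R T
    (f := (IsScalarTower.toAlgHom B C T).toLinearMap)).1 hfree
  haveI : Module.Finite R T := Module.Finite.of_isLocalizedModule M (IsScalarTower.toAlgHom B C T).toLinearMap
  have h0 : (0 : C) ∉ Algebra.algebraMapSubmonoid C M := by
    rintro ⟨y, hy, hy0⟩
    exact hy (by rw [hinj (hy0.trans (map_zero _).symm)]; exact zero_mem _)
  haveI : Nontrivial T := ⟨⟨0, 1, fun e => h0 (by
    obtain ⟨m, hm⟩ := (IsLocalization.map_eq_zero_iff (Algebra.algebraMapSubmonoid C M) T 1).1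
      (by rw [map_one, e])
    have : (m : C) = 0 := by simpa using hm
    exact this ▸ m.2)⟩⟩
  haveI : IsNoetherianRing T := IsLocalization.isNoetherianRing (Algebra.algebraMapSubmonoid C M) _ inferInstance
  haveI : IsNoetherianRing R := IsLocalization.isNoetherianRing M _ inferInstance
  haveI : IsRegularRing T := isRegularRing_iff.2 fun Q hQ => by
    let q : PrimeSpectrum C := PrimeSpectrum.comap (algebraMap C T) ⟨Q, hQ⟩
    have hdisj := ((IsLocalization.isPrime_iff_isPrime_disjoint (Algebra.algebraMapSubmonoid C M) T Q).1 hQ).2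
    have hbq : algebraMap B C b ∉ q.asIdeal := fun hbq => Set.disjoint_left.1 hdisj
      ⟨b, fun hbP => hP (Ideal.mul_mem_right _ _ hbP), rfl⟩ hbq
    haveI : IsRegularLocalRing (Localization.AtPrime q.asIdeal) := hU (hgU (fun hgq => hbq
      ((Ideal.span_singleton_le_iff_mem _).2 hgq hb)))
    haveI : IsLocalization.AtPrime (Localization.AtPrime Q) q.asIdeal :=
      IsLocalization.isLocalization_isLocalization_atPrime_isLocalization (Algebra.algebraMapSubmonoid C M) _ Q
    exact IsRegularLocalRing.of_ringEquiv (IsLocalization.algEquiv q.asIdeal.primeCompl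
      (Localization.AtPrime q.asIdeal) (Localization.AtPrime Q)).toRingEquiv
  exact isRegularLocalRing_of_free_regular R T

end J2Lib
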