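import Groth.Agent.J2Lib.Generic
import Groth.Agent.J2Lib.Descent
import Mathlib.RingTheory.Smooth.Field
import Mathlib.FieldTheory.PurelyInseparable.PerfectClosure
import Mathlib.RingTheory.Algebraic.Integral
import Mathlib.FieldTheory.IsAlgClosed.AlgebraicClosure

/-! Generic regularity of finite type domains from that of finite extensions of the base. -/

set_option autoImplicit false
set_option linter.style.haveILetI false
set_option maxHeartbeats 1600000
universe u

open EGA4

namespace J2Lib

theorem isSeparable_mono {K Ω : Type*} [Field K] [Field Ω] [Algebra K Ω] {E F : IntermediateField K Ω}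
    (h : E ≤ F) {x : Ω} (hx : IsSeparable E x) : IsSeparable F x := by
  let q := (minpoly E x).map (IntermediateField.inclusion h).toRingHom
  have h0 : Polynomial.aeval x q = 0 := by
    rw [Polynomial.aeval_def, Polynomial.eval₂_map]
    exact minpoly.aeval E x
  exact Polynomial.Separable.of_dvd (Polynomial.Separable.map hx) (minpoly.dvd F x h0)

theorem exists_finset_isSeparable {K Ω : Type*} [Field K] [Field Ω] [Algebra K Ω] (X : Set Ω) {x : Ω}
    (hx : IsSeparable (IntermediateField.adjoin K X) x) :
    ∃ T : Finset Ω, (T : Set Ω) ⊆ X ∧ IsSeparable (IntermediateField.adjoin K (T : Set Ω)) x := by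
  classical
  let E := IntermediateField.adjoin K X
  let q := minpoly E x
  choose T hT hTc using fun i : ℕ => IntermediateField.exists_finset_of_mem_adjoin (q.coeff i).2
  let T' := (Finset.range (q.natDegree + 1)).biUnion T
  refine ⟨T', ?_, ?_⟩
  · rw [Finset.coe_biUnion]
    exact Set.iUnion₂_subset fun i _ => hT i
  set E' := IntermediateField.adjoin K (T' : Set Ω)
  obtain ⟨r, hr⟩ : ∃ r : Polynomial E', r.map (algebraMap E' Ω) = q.map (algebraMap E Ω) := by
    refine Polynomial.mem_lifts _ |>.1 ((Polynomial.lifts_iff_coeff_lifts _).2 fun i => ?_)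
    rw [Polynomial.coeff_map]
    by_cases hi : i ∈ Finset.range (q.natDegree + 1)
    · refine ⟨⟨(q.coeff i).1, IntermediateField.adjoin.mono K _ _ ?_ (hTc i)⟩, rfl⟩
      exact Finset.coe_subset.2 (Finset.subset_biUnion_of_mem T hi)
    · refine ⟨0, ?_⟩
      rw [Polynomial.coeff_eq_zero_of_natDegree_lt (Nat.lt_of_succ_le (Nat.le_of_not_lt
        (fun h => hi (Finset.mem_range.2 h)))), map_zero, map_zero]
  have hrs : r.Separable := by
    rw [← Polynomial.separable_map (algebraMap E' Ω), hr, Polynomial.separable_map]
    exact hx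
  refine Polynomial.Separable.of_dvd hrs (minpoly.dvd E' x ?_)
  rw [Polynomial.aeval_def, ← Polynomial.eval_map, hr, Polynomial.eval_map, ← Polynomial.aeval_def]
  exact minpoly.aeval E x

theorem isFractionRing_subalgebra {R k Ω : Type*} [CommRing R] [Field k] [Field Ω] [Algebra R Ω]
    [Algebra k Ω] (S : Subalgebra R Ω) (F : IntermediateField k Ω) [Algebra S F]
    (hmap : ∀ x : S, ((algebraMap S F x : F) : Ω) = x)
    (h : ∀ x ∈ F, x ∈ Subfield.closure (S : Set Ω)) : IsFractionRing S F := by
  haveI : FaithfulSMul S F := (faithfulSMul_iff_algebraMap_injective S F).2 fun a b hab => by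
    refine Subtype.ext ?_
    rw [← hmap a, ← hmap b, hab]
  refine IsFractionRing.of_field S F fun z => ?_
  obtain ⟨a, ha, b, hb, hab⟩ := Subfield.mem_closure_iff.1 (h z.1 z.2)
  have hS : Subring.closure (S : Set Ω) ≤ S.toSubring := Subring.closure_le.2 (subset_refl _)
  refine ⟨⟨a, hS ha⟩, ⟨b, hS hb⟩, Subtype.ext ?_⟩
  show (z : Ω) = (algebraMap S F _ : F).1 / (algebraMap S F _ : F).1
  rw [hmap, hmap]
  exact hab.symm

/-- If finite extensions of a Noetherian domain are generically regular, so are finite type domains
dominating it. -/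
theorem exists_open_regLocus_of_finiteType (A B : Type u) [CommRing A] [IsNoetherianRing A] [IsDomain A]
    [CommRing B] [IsDomain B] [Algebra A B] [Algebra.FiniteType A B]
    (hinj : Function.Injective (algebraMap A B))
    (h : ∀ (A' : Type u) [CommRing A'] [IsDomain A'] [Algebra A A'], Module.Finite A A' →
      ∃ U : Set (PrimeSpectrum A'), IsOpen U ∧ U.Nonempty ∧ U ⊆ regLocus A') :
    ∃ U : Set (PrimeSpectrum B), IsOpen U ∧ U.Nonempty ∧ U ⊆ regLocus B := by
  classical
  haveI : IsNoetherianRing B := Algebra.FiniteType.isNoetherianRing A B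
  let L := FractionRing B
  let Ω := AlgebraicClosure L
  haveI : FaithfulSMul A Ω := (faithfulSMul_iff_algebraMap_injective A Ω).2 (by
    rw [IsScalarTower.algebraMap_eq A B Ω, IsScalarTower.algebraMap_eq B L Ω]
    exact (((algebraMap L Ω).injective.comp (IsFractionRing.injective B L))).comp hinj)
  let K := FractionRing A
  letI : Algebra K Ω := FractionRing.liftAlgebra A Ω
  have halg : ∀ x : Ω, IsAlgebraic B x := fun x =>
    (IsFractionRing.isAlgebraic_iff B L Ω).2 (Algebra.IsAlgebraic.isAlgebraic x)
  obtain ⟨G, hG⟩ := (inferInstance : Algebra.FiniteType A B).out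
  let G' : Finset Ω := G.image (algebraMap B Ω)
  let P := perfectClosure K Ω
  let M := IntermediateField.adjoin P (G' : Set Ω)
  haveI : Algebra.EssFiniteType P M :=
    IntermediateField.essFiniteType_iff.2 (IntermediateField.fg_adjoin_finset G')
  obtain ⟨s, hs, hsep⟩ := exists_isTranscendenceBasis_and_isSeparable_of_perfectField P M
  let sΩ : Finset Ω := s.image (fun x : M => (x : Ω))
  let X : Set Ω := (P : Set Ω) ∪ sΩ
  have hX : ∀ g ∈ G', IsSeparable (IntermediateField.adjoin K X) g := by
    intro g hg
    let E1 := IntermediateField.adjoin P (s : Set M)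
    have hg1 : IsSeparable E1 (⟨g, IntermediateField.subset_adjoin P _ hg⟩ : M) :=
      Algebra.IsSeparable.isSeparable E1 _
    set q := minpoly E1 (⟨g, IntermediateField.subset_adjoin P _ hg⟩ : M) with hq
    let j : E1 →+* (IntermediateField.adjoin K X) :=
      { toFun := fun e => ⟨((e : M) : Ω), by
          have he : (e : M) ∈ E1 := e.2
          have hle : E1 ≤ ((IntermediateField.adjoin P (sΩ : Set Ω))).comap M.val := by
            rw [IntermediateField.adjoin_le_iff]
            intro y hy
            exact IntermediateField.subset_adjoin P _ (Finset.mem_coe.2 (Finset.mem_image_of_mem _ hy))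
          have h2 := hle he
          have : (IntermediateField.adjoin P (sΩ : Set Ω)).restrictScalars K =
              IntermediateField.adjoin K X := IntermediateField.restrictScalars_adjoin K P (sΩ : Set Ω)
          rw [← this]
          exact h2⟩
        map_one' := rfl
        map_mul' := fun _ _ => rfl
        map_zero' := rfl
        map_add' := fun _ _ => rfl }
    refine Polynomial.Separable.of_dvd (Polynomial.Separable.map (f := j) hg1) (minpoly.dvd _ g ?_)
    rw [Polynomial.aeval_def, Polynomial.eval₂_map]
    have := Polynomial.hom_eval₂ q (algebraMap E1 M) M.val.toRingHom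
      (⟨g, IntermediateField.subset_adjoin P _ hg⟩ : M)
    rw [← Polynomial.aeval_def, hq, minpoly.aeval, map_zero] at this
    exact this.symm
  choose T hT hTsep using fun g : G' => exists_finset_isSeparable X (hX g.1 g.2)
  let W : Finset Ω := (Finset.univ.biUnion T).filter (fun w => w ∈ P)
  let K' := IntermediateField.adjoin K (W : Set Ω)
  let E' := IntermediateField.adjoin K' (sΩ : Set Ω)
  let L'' := IntermediateField.adjoin E' (G' : Set Ω)
  -- formal smoothness
  have hWP : (W : Set Ω) ⊆ P := fun w hw => (Finset.mem_filter.1 (Finset.mem_coe.1 hw)).2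
  have hK'P : K' ≤ P := IntermediateField.adjoin_le_iff.2 hWP
  haveI : Algebra.FormallySmooth K' L'' := by
    letI : Algebra K' P := (IntermediateField.inclusion hK'P).toRingHom.toAlgebra
    haveI : IsScalarTower K' P Ω := IsScalarTower.of_algebraMap_eq fun _ => rfl
    have hsP : AlgebraicIndependent P (fun x : s => ((x : M) : Ω)) :=
      hs.1.map' (f := M.val) M.val.injective
    have hsK : AlgebraicIndependent K' (fun x : s => ((x : M) : Ω)) :=
      hsP.restrictScalars (algebraMap K' P).injective
    haveI : Algebra.FormallySmooth K' E' := by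
      have h1 := Algebra.FormallySmooth.adjoin_of_algebraicIndependent hsK
      have h2 : IntermediateField.adjoin K' (Set.range fun x : s => ((x : M) : Ω)) = E' := by
        show _ = IntermediateField.adjoin K' _
        congr 1
        ext y
        simp [sΩ]
      exact Algebra.FormallySmooth.of_equiv (IntermediateField.equivOfEq h2)
    haveI : Algebra.IsSeparable E' L'' := (IntermediateField.isSeparable_adjoin_iff_isSeparable _ _).2 fun g hg => by
      have h1 : IntermediateField.adjoin K ((T ⟨g, hg⟩ : Finset Ω) : Set Ω) ≤ E'.restrictScalars K := by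
        rw [IntermediateField.adjoin_le_iff]
        intro y hy
        rcases hT ⟨g, hg⟩ hy with hyP | hys
        · exact IntermediateField.algebraMap_mem E' (⟨y, IntermediateField.subset_adjoin K _
            (Finset.mem_coe.2 (Finset.mem_filter.2 ⟨Finset.mem_biUnion.2 ⟨_, Finset.mem_univ _, hy⟩,
              hyP⟩))⟩ : K')
        · exact IntermediateField.subset_adjoin K' _ hys
      exact isSeparable_mono h1 (hTsep ⟨g, hg⟩)
    haveI : Algebra.FormallyEtale E' L'' := Algebra.FormallyEtale.of_isSeparable E' L''
    exact Algebra.FormallySmooth.comp K' E' L''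
  -- integral multiples
  have hWA : ∀ w ∈ W, ∃ a : A, a ≠ 0 ∧ IsIntegral A (a • w) := fun w hw => by
    have h1 : IsAlgebraic K w :=
      (perfectClosure.isAlgebraic K Ω).isAlgebraic (⟨w, hWP hw⟩ : P) |>.algebraMap
    exact ((IsFractionRing.isAlgebraic_iff A K Ω).2 h1).exists_integral_multiple
  choose cA hcA hcAint using hWA
  choose cB hcB hcBint using fun x : Ω => (halg x).exists_integral_multiple
  let W0 : Finset Ω := W.attach.image fun w => cA w.1 w.2 • w.1
  let s0 : Finset Ω := sΩ.image fun x => cB x • x
  let A'' := Algebra.adjoin A (W0 : Set Ω)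
  let B'' := Algebra.adjoin B ((W0 ∪ s0 : Finset Ω) : Set Ω)
  have hW0int : ∀ y ∈ (W0 : Set Ω), IsIntegral A y := fun y hy => by
    obtain ⟨w, -, rfl⟩ := Finset.mem_image.1 (Finset.mem_coe.1 hy)
    exact hcAint _ _
  have hBint : ∀ y ∈ ((W0 ∪ s0 : Finset Ω) : Set Ω), IsIntegral B y := fun y hy => by
    rcases Finset.mem_union.1 (Finset.mem_coe.1 hy) with hy | hy
    · exact (hW0int y hy).tower_top
    · obtain ⟨x, -, rfl⟩ := Finset.mem_image.1 hy
      exact hcBint x
  haveI : Module.Finite A A'' :=
    Algebra.finite_adjoin_of_finite_of_isIntegral W0.finite_toSet hW0int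
  haveI : Module.Finite B B'' :=
    Algebra.finite_adjoin_of_finite_of_isIntegral (W0 ∪ s0).finite_toSet hBint
  haveI : IsNoetherianRing A'' := IsNoetherianRing.of_finite A A''
  have hA''B'' : A'' ≤ B''.restrictScalars A := Algebra.adjoin_le fun y hy =>
    Algebra.subset_adjoin (Finset.mem_coe.2 (Finset.mem_union_left _ hy))
  letI : Algebra A'' B'' := (Subalgebra.inclusion hA''B'').toRingHom.toAlgebra
  haveI : IsScalarTower A A'' B'' := IsScalarTower.of_algebraMap_eq fun _ => rfl
  haveI : Algebra.FiniteType A B'' := Algebra.FiniteType.trans (inferInstance : Algebra.FiniteType A B)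
    (inferInstance : Algebra.FiniteType B B'')
  haveI : Algebra.FiniteType A'' B'' := Algebra.FiniteType.of_restrictScalars_finiteType A A'' B''
  -- memberships
  have hA'' : ∀ y ∈ A'', y ∈ K' := by
    intro y hy
    refine Algebra.adjoin_induction (fun z hz => ?_) (fun a => ?_) (fun _ _ _ _ => add_mem)
      (fun _ _ _ _ => mul_mem) hy
    · obtain ⟨w, -, rfl⟩ := Finset.mem_image.1 (Finset.mem_coe.1 hz)
      rw [Algebra.smul_def, IsScalarTower.algebraMap_apply A K Ω]
      exact mul_mem (K'.algebraMap_mem _) (IntermediateField.subset_adjoin K _ w.2)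
    · rw [IsScalarTower.algebraMap_apply A K Ω]
      exact K'.algebraMap_mem _
  have hK'L : ∀ y ∈ K', y ∈ L'' := fun y hy =>
    L''.algebraMap_mem (algebraMap K' E' ⟨y, hy⟩)
  have hBL : ∀ b : B, algebraMap B Ω b ∈ L'' := fun b => by
    have hb : b ∈ Algebra.adjoin A (G : Set B) := hG ▸ Algebra.mem_top
    refine Algebra.adjoin_induction (p := fun b _ => algebraMap B Ω b ∈ L'') (fun z hz => ?_) (fun a => ?_)
      (fun _ _ _ _ h1 h2 => by rw [map_add]; exact add_mem h1 h2)
      (fun _ _ _ _ h1 h2 => by rw [map_mul]; exact mul_mem h1 h2) hb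
    · exact IntermediateField.subset_adjoin E' _ (Finset.mem_coe.2 (Finset.mem_image_of_mem _ hz))
    · rw [← IsScalarTower.algebraMap_apply A B Ω]
      exact hK'L _ (hA'' _ (A''.algebraMap_mem a))
  have hB'' : ∀ y ∈ B'', y ∈ L'' := by
    intro y hy
    refine Algebra.adjoin_induction (fun z hz => ?_) hBL (fun _ _ _ _ => add_mem)
      (fun _ _ _ _ => mul_mem) hy
    rcases Finset.mem_union.1 (Finset.mem_coe.1 hz) with hz | hz
    · exact hK'L _ (hA'' _ (Algebra.subset_adjoin hz))
    · obtain ⟨x, hx, rfl⟩ := Finset.mem_image.1 hz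
      rw [Algebra.smul_def]
      exact mul_mem (hBL _) (L''.algebraMap_mem (⟨x, IntermediateField.subset_adjoin K' _ hx⟩ : E'))
  letI : Algebra A'' K' := (RingHom.codRestrict A''.val.toRingHom K' fun x => hA'' _ x.2).toAlgebra
  letI : Algebra B'' L'' := (RingHom.codRestrict B''.val.toRingHom L'' fun x => hB'' _ x.2).toAlgebra
  have hKF : ∀ (S : Set Ω), (∀ a : A, algebraMap A Ω a ∈ S) → ∀ k : K, algebraMap K Ω k ∈ Subfield.closure S := by
    intro S hS k
    obtain ⟨a, b, hb, rfl⟩ := IsFractionRing.div_surjective A k
    rw [map_div₀, ← IsScalarTower.algebraMap_apply A K Ω, ← IsScalarTower.algebraMap_apply A K Ω]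
    exact div_mem (Subfield.subset_closure (hS a)) (Subfield.subset_closure (hS b))
  have hWF : ∀ (S : Set Ω), (∀ a : A, algebraMap A Ω a ∈ S) → (W0 : Set Ω) ⊆ S →
      ∀ x ∈ K', x ∈ Subfield.closure S := by
    intro S hS hW0 x hx
    have hle : K' ≤ (Subfield.closure S).toIntermediateField (hKF S hS) := by
      refine IntermediateField.adjoin_le_iff.2 fun w hw => ?_
      have h1 : cA w hw • w ∈ S := hW0 (Finset.mem_coe.2 (Finset.mem_image.2 ⟨⟨w, hw⟩, Finset.mem_attach _ _, rfl⟩))
      have h0 : algebraMap A Ω (cA w hw) ≠ 0 :=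
        (map_ne_zero_iff _ (FaithfulSMul.algebraMap_injective A Ω)).2 (hcA w hw)
      have : w = (cA w hw • w) / algebraMap A Ω (cA w hw) := by
        rw [Algebra.smul_def, mul_div_cancel_left₀ _ h0]
      show w ∈ Subfield.closure S
      rw [this]
      exact div_mem (Subfield.subset_closure h1) (Subfield.subset_closure (hS _))
    exact hle hx
  haveI : IsFractionRing A'' K' := isFractionRing_subalgebra A'' K' (fun _ => rfl)
    (hWF _ A''.algebraMap_mem Algebra.subset_adjoin)
  haveI : IsFractionRing B'' L'' := by
    refine isFractionRing_subalgebra B'' L'' (fun _ => rfl) fun x hx => ?_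
    have hA : ∀ a : A, algebraMap A Ω a ∈ (B'' : Set Ω) := fun a => by
      rw [IsScalarTower.algebraMap_apply A B Ω]; exact B''.algebraMap_mem _
    have h1 : ∀ y ∈ K', y ∈ Subfield.closure (B'' : Set Ω) := hWF _ hA fun y hy =>
      Algebra.subset_adjoin (Finset.mem_coe.2 (Finset.mem_union_left _ hy))
    have h2 : E' ≤ (Subfield.closure (B'' : Set Ω)).toIntermediateField (fun k : K' => h1 _ k.2) := by
      refine IntermediateField.adjoin_le_iff.2 fun y hy => ?_
      have h0 : algebraMap B Ω (cB y) ≠ 0 := by
        rw [IsScalarTower.algebraMap_apply B L Ω]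
        exact (map_ne_zero_iff _ (algebraMap L Ω).injective).2
          ((map_ne_zero_iff _ (IsFractionRing.injective B L)).2 (hcB y))
      have hy1 : cB y • y ∈ (B'' : Set Ω) :=
        Algebra.subset_adjoin (Finset.mem_coe.2 (Finset.mem_union_right _ (Finset.mem_image_of_mem _ hy)))
      have : y = (cB y • y) / algebraMap B Ω (cB y) := by
        rw [Algebra.smul_def, mul_div_cancel_left₀ _ h0]
      show y ∈ Subfield.closure (B'' : Set Ω)
      rw [this]
      exact div_mem (Subfield.subset_closure hy1) (Subfield.subset_closure (B''.algebraMap_mem _))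
    have h3 : L'' ≤ (Subfield.closure (B'' : Set Ω)).toIntermediateField (fun e : E' => h2 e.2) := by
      refine IntermediateField.adjoin_le_iff.2 fun y hy => ?_
      obtain ⟨b, -, rfl⟩ := Finset.mem_image.1 (Finset.mem_coe.1 hy)
      exact Subfield.subset_closure (B''.algebraMap_mem b)
    exact h3 hx
  haveI : Algebra.FormallySmooth A'' (FractionRing B'') := by
    letI : Algebra A'' L'' := ((algebraMap K' L'').comp (algebraMap A'' K')).toAlgebra
    haveI : IsScalarTower A'' K' L'' := IsScalarTower.of_algebraMap_eq fun _ => rfl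
    haveI : IsScalarTower A'' B'' L'' := IsScalarTower.of_algebraMap_eq fun _ => rfl
    haveI : Algebra.FormallySmooth A'' K' := Algebra.FormallySmooth.of_isLocalization (nonZeroDivisors A'')
    haveI : Algebra.FormallySmooth A'' L'' := Algebra.FormallySmooth.comp A'' K' L''
    exact Algebra.FormallySmooth.of_equiv
      ((IsLocalization.algEquiv (nonZeroDivisors B'') L'' (FractionRing B'')).restrictScalars A'')
  have hinj'' : Function.Injective (algebraMap B B'') := fun a b hab => by
    have := congrArg (fun y : B'' => (y : Ω)) hab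
    exact IsFractionRing.injective B L ((algebraMap L Ω).injective
      (by simpa [← IsScalarTower.algebraMap_apply] using this))
  exact exists_open_regLocus_of_finite B B'' hinj'' (exists_open_regLocus_of_formallySmooth A'' B''
    (Subalgebra.inclusion_injective hA''B'') (h A'' inferInstance))

end J2Lib
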