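import Groth.Prelude.Def_EGA4b
import Groth.Agent.CohenLib.RegularField
import Mathlib.RingTheory.Smooth.Locus

/-! Generic regularity of generically smooth extensions. -/

set_option autoImplicit false
set_option linter.style.haveILetI false
universe u

open EGA4

namespace J2Lib

theorem mem_regLocus_away_iff {A : Type u} [CommRing A] (f : A) (Q : PrimeSpectrum (Localization.Away f)) :
    Q ∈ regLocus (Localization.Away f) ↔
      PrimeSpectrum.comap (algebraMap A (Localization.Away f)) Q ∈ regLocus A := by
  haveI : IsLocalization.AtPrime (Localization.AtPrime Q.asIdeal)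
      (PrimeSpectrum.comap (algebraMap A (Localization.Away f)) Q).asIdeal :=
    IsLocalization.isLocalization_isLocalization_atPrime_isLocalization (Submonoid.powers f) _ Q.asIdeal
  let e := (IsLocalization.algEquiv (PrimeSpectrum.comap (algebraMap A (Localization.Away f)) Q).asIdeal.primeCompl
    (Localization.AtPrime (PrimeSpectrum.comap (algebraMap A (Localization.Away f)) Q).asIdeal)
    (Localization.AtPrime Q.asIdeal)).toRingEquiv
  exact ⟨fun h => @IsRegularLocalRing.of_ringEquiv _ _ h _ _ e.symm,
    fun h => @IsRegularLocalRing.of_ringEquiv _ _ h _ _ e⟩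

theorem isRegularRing_away_iff {A : Type u} [CommRing A] [IsNoetherianRing A] (f : A) :
    IsRegularRing (Localization.Away f) ↔
      (PrimeSpectrum.basicOpen f : Set (PrimeSpectrum A)) ⊆ regLocus A := by
  haveI : IsNoetherianRing (Localization.Away f) :=
    IsLocalization.isNoetherianRing (Submonoid.powers f) _ inferInstance
  rw [isRegularRing_iff, ← PrimeSpectrum.localization_away_comap_range (Localization.Away f) f]
  constructor
  · rintro h _ ⟨Q, rfl⟩
    exact (mem_regLocus_away_iff f Q).1 (h Q.asIdeal)
  · exact fun h Q hQ => (mem_regLocus_away_iff f ⟨Q, hQ⟩).2 (h ⟨⟨Q, hQ⟩, rfl⟩)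

/-- A generically formally smooth extension of a generically regular domain is generically regular. -/
theorem exists_open_regLocus_of_formallySmooth (A B : Type u) [CommRing A] [IsNoetherianRing A]
    [IsDomain A] [CommRing B] [IsDomain B] [Algebra A B] [Algebra.FiniteType A B]
    [Algebra.FormallySmooth A (FractionRing B)] (hinj : Function.Injective (algebraMap A B))
    (h : ∃ U : Set (PrimeSpectrum A), IsOpen U ∧ U.Nonempty ∧ U ⊆ regLocus A) :
    ∃ U : Set (PrimeSpectrum B), IsOpen U ∧ U.Nonempty ∧ U ⊆ regLocus B := by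
  haveI : IsNoetherianRing B := Algebra.FiniteType.isNoetherianRing A B
  haveI : Algebra.FinitePresentation A B := Algebra.FinitePresentation.of_finiteType.1 ‹_›
  obtain ⟨U, hUo, ⟨x, hx⟩, hU⟩ := h
  obtain ⟨_, ⟨a, rfl⟩, hxa, haU⟩ :=
    PrimeSpectrum.isTopologicalBasis_basic_opens.exists_subset_of_mem_open hx hUo
  have ha0 : a ≠ 0 := fun ha => hxa (show a ∈ x.asIdeal from ha ▸ zero_mem _)
  let η : PrimeSpectrum B := ⟨⊥, Ideal.isPrime_bot⟩
  have hη : η ∈ Algebra.smoothLocus A B := by
    haveI : IsFractionRing B (Localization.AtPrime η.asIdeal) := by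
      show IsLocalization (nonZeroDivisors B) _
      rw [← Ideal.primeCompl_bot]
      exact (inferInstance : IsLocalization η.asIdeal.primeCompl (Localization.AtPrime η.asIdeal))
    exact Algebra.FormallySmooth.of_equiv
      ((IsLocalization.algEquiv (nonZeroDivisors B) (FractionRing B)
        (Localization.AtPrime η.asIdeal)).restrictScalars A)
  obtain ⟨_, ⟨g, rfl⟩, hηg, hgs⟩ :=
    PrimeSpectrum.isTopologicalBasis_basic_opens.exists_subset_of_mem_open hη Algebra.isOpen_smoothLocus
  have hg0 : g ≠ 0 := fun hg => hηg (show g ∈ η.asIdeal from hg ▸ zero_mem _)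
  let f := algebraMap A B a * g
  have hf : (PrimeSpectrum.basicOpen f : Set (PrimeSpectrum B)) ⊆ Algebra.smoothLocus A B :=
    fun q hq => hgs (fun hgq => hq (Ideal.mul_mem_left _ _ hgq))
  let Bf := Localization.Away f
  let Aa := Localization.Away a
  haveI : Algebra.Smooth A Bf := Algebra.basicOpen_subset_smoothLocus_iff_smooth.1 hf
  haveI : IsRegularRing Aa := (isRegularRing_away_iff a).2 (haU.trans hU)
  have hu : IsUnit (algebraMap A Bf a) := by
    refine isUnit_of_dvd_unit ?_ (IsLocalization.Away.algebraMap_isUnit (S := Bf) f)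
    rw [IsScalarTower.algebraMap_apply A B Bf]
    exact map_dvd _ (Dvd.intro g rfl)
  letI : Algebra Aa Bf := (IsLocalization.Away.lift (S := Aa) a hu).toAlgebra
  haveI : IsScalarTower A Aa Bf :=
    IsScalarTower.of_algebraMap_eq fun r => (IsLocalization.Away.lift_eq a hu r).symm
  haveI : Algebra.FormallySmooth Aa Bf := Algebra.FormallySmooth.localization_base (Submonoid.powers a)
  haveI : Algebra.FiniteType A Aa := IsLocalization.finiteType_of_monoid_fg (Submonoid.powers a) _
  haveI : Algebra.FinitePresentation Aa Bf :=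
    Algebra.FinitePresentation.of_restrict_scalars_finitePresentation A Aa Bf
  haveI : Algebra.Smooth Aa Bf := ⟨inferInstance, inferInstance⟩
  haveI : IsRegularRing Bf := CohenLib.isRegularRing_of_smooth Aa Bf
  refine ⟨PrimeSpectrum.basicOpen f, (PrimeSpectrum.basicOpen f).2, ⟨η, ?_⟩,
    (isRegularRing_away_iff f).1 ‹_›⟩
  show f ∉ (⊥ : Ideal B)
  rw [Ideal.mem_bot]
  exact mul_ne_zero ((map_ne_zero_iff _ hinj).2 ha0) hg0

end J2Lib
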